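import Groth.Agent.CompactBdd.Basic
import Groth.Agent.KInj.Existence

/-!
An object of bounded cohomological dimension with `Hom` commuting with sums and acyclic on sums of
injectives is compact in the derived category.
-/

set_option autoImplicit false
set_option linter.style.haveILetI false
set_option backward.isDefEq.respectTransparency false
set_option backward.isDefEq.respectTransparency.types false

universe v u

open CategoryTheory Category Limits Abelian Opposite HomologicalComplex DerivedCategory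

namespace Groth.Agent.CompactCd

open Groth.Agent.CompactBdd

variable {A : Type u} [Category.{v} A] [Abelian A] [IsGrothendieckAbelian.{v} A]

/-- Ext out of `P` vanishes above `d` -/
def CdLE (P : A) (d : ℕ) : Prop := ∀ (X : A) (n : ℕ), d < n → Subsingleton (Ext P X n)

variable {P : A}

lemma ac_cycles {d : ℕ} (hd : CdLE P d) (K : CochainComplex A ℤ) (hK : K.Acyclic)
    (hq : ∀ k, Ac P (K.X k)) (k : ℤ) : Ac P (K.cycles k) := by
  have key : ∀ (n : ℕ) (k : ℤ) (m : ℕ), d < n + m + 1 → Subsingleton (Ext P (K.cycles k) (m + 1)) := by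
    intro n
    induction n with
    | zero => exact fun k m hm => hd _ _ (by omega)
    | succ n ih =>
      intro k m hm
      haveI := ih (k - 1) (m + 1) (by omega)
      haveI := hq (k - 1) m
      refine subsingleton_of_forall_eq 0 fun x => ?_
      obtain ⟨x₂, rfl⟩ := Ext.covariant_sequence_exact₃ P
        (AcycDef.shortExact_cycles K (k - 1) k (by simp) (hK _)) x rfl (Subsingleton.elim _ _)
      rw [Subsingleton.elim x₂ 0, Ext.zero_comp]
  exact fun m => key d k m (by omega)

/-- maps out of `P` into an exact complex of acyclic objects form an exact sequence -/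
lemma exists_preimage {d : ℕ} (hd : CdLE P d) (K : CochainComplex A ℤ) (hK : K.Acyclic)
    (hq : ∀ k, Ac P (K.X k)) (i j k : ℤ) (hij : i + 1 = j) (hjk : j + 1 = k) (x : P ⟶ K.X j)
    (hx : x ≫ K.d j k = 0) : ∃ y : P ⟶ K.X i, y ≫ K.d i j = x := by
  obtain ⟨y, hy⟩ := exists_lift (AcycDef.shortExact_cycles K i j (by simp [hij]) (hK j))
    (ac_cycles hd K hK hq i) (K.liftCycles x k (by simp [hjk]) hx)
  refine ⟨y, ?_⟩
  have h := congrArg (· ≫ K.iCycles j) hy
  simpa using h

variable [HasDerivedCategory.{v} A]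

/-- maps out of `P` into a bounded below complex of acyclic objects come from chain maps -/
theorem exists_chain_map {C : CochainComplex A ℤ} {d : ℕ} (hd : CdLE P d) (hC : ∀ k, Ac P (C.X k))
    (φ : Q.obj (S₀ P) ⟶ Q.obj C) : ∃ g : S₀ P ⟶ C, Q.map g = φ := by
  classical
  obtain ⟨J, s, hJK, hs, -, hJ⟩ := KInj.exists_kInjective C
  haveI := hs
  haveI := hJK
  obtain ⟨f, hf⟩ := KInj.Q_map_surjective (K := S₀ P) (I := J) (φ ≫ Q.map s)
  let i₀ := (singleObjXSelf (ComplexShape.up ℤ) 0 P).inv
  let x : P ⟶ J.X 0 := i₀ ≫ f.f 0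
  have hx : x ≫ J.d 0 1 = 0 := by
    simp only [x, assoc, f.comm 0 1, single_obj_d, zero_comp, comp_zero]
  let M := CochainComplex.mappingCone s
  let e := fun n => HomologicalComplex.homotopyCofiber.XIsoBiprod s n (n + 1) rfl
  have hM : M.Acyclic := KFlat.mappingCone_acyclic s
  have hq : ∀ n, Ac P (M.X n) := fun n =>
    ac_of_iso (e n).symm (ac_biprod (hC (n + 1)) (haveI := hJ n; ac_of_injective _))
  let x' : P ⟶ M.X 0 := x ≫ (CochainComplex.mappingCone.inr s).f 0
  obtain ⟨z, hz⟩ := exists_preimage hd M hM hq (-1) 0 1 (by omega) (by omega) x' (by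
    simp only [x', M, assoc, CochainComplex.mappingCone.inr_f_d, reassoc_of% hx, zero_comp])
  let c : P ⟶ C.X 0 := z ≫ (CochainComplex.mappingCone.fst s).1.v (-1) 0 (by omega)
  let y : P ⟶ J.X (-1) := z ≫ (CochainComplex.mappingCone.snd s).v (-1) (-1) (add_zero _)
  have hc : c ≫ C.d 0 1 = 0 := by
    have h := congrArg (· ≫ (CochainComplex.mappingCone.fst s).1.v 0 1 (by omega)) hz
    simp only [M, assoc, CochainComplex.mappingCone.d_fst_v s (-1) 0 1 (by omega) (by omega),
      Preadditive.comp_neg, x', CochainComplex.mappingCone.inr_f_fst_v, comp_zero, neg_eq_zero] at h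
    simpa [c] using h
  have hxy : x = c ≫ s.f 0 + y ≫ J.d (-1) 0 := by
    have h := congrArg (· ≫ (CochainComplex.mappingCone.snd s).v 0 0 (add_zero _)) hz
    simp only [M, assoc, CochainComplex.mappingCone.d_snd_v s (-1) 0 (by omega),
      Preadditive.comp_add, x', CochainComplex.mappingCone.inr_f_snd_v, comp_id] at h
    simp only [c, y, assoc]
    exact h.symm
  let g : S₀ P ⟶ C := mkHomFromSingle c fun j hj => by
    obtain rfl : (0 : ℤ) + 1 = j := hj
    exact hc
  refine ⟨g, ?_⟩
  rw [← cancel_mono (Q.map s), ← hf, ← Functor.map_comp]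
  let hh : ∀ i j, (ComplexShape.up ℤ).Rel j i → ((S₀ P).X i ⟶ J.X j) := fun i j hij =>
    if h : i = 0 then eqToHom (by rw [h]) ≫ (singleObjXSelf (ComplexShape.up ℤ) 0 P).hom ≫ y ≫ eqToHom (by
      have : j + 1 = i := hij
      rw [show j = -1 by omega])
    else 0
  have key : f - g ≫ s = Homotopy.nullHomotopicMap' hh := by
    refine from_single_hom_ext ?_
    rw [Homotopy.nullHomotopicMap'_f (k₂ := -1) (k₁ := 0) (k₀ := 1) (by simp) (by simp) hh,
      single_obj_d, zero_comp, zero_add]
    have : hh 0 (-1) (by simp) = (singleObjXSelf (ComplexShape.up ℤ) 0 P).hom ≫ y := by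
      simp [hh]
    rw [this, ← cancel_epi i₀]
    simp only [HomologicalComplex.sub_f_apply, HomologicalComplex.comp_f, g, i₀, mkHomFromSingle_f,
      Preadditive.comp_sub, assoc, Iso.inv_hom_id_assoc]
    rw [sub_eq_iff_eq_add, add_comm]
    exact hxy
  exact (KInj.Q_map_eq_of_homotopy ((Homotopy.ofEq key).trans (Homotopy.nullHomotopy' hh))).symm

variable (P)

lemma homSum_of' {K : DerivedCategory A} {ι : Type v} [DecidableEq ι] (X : ι → DerivedCategory A) [HasCoproduct X]
    (t : ι) (φ : K ⟶ X t) :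
    CohDer.homSumToHomCoprod K X (DirectSum.of _ t φ) = φ ≫ Sigma.ι X t := by
  simp only [CohDer.homSumToHomCoprod]
  convert DirectSum.toAddMonoid_of (fun i => Preadditive.rightComp K (Sigma.ι X i)) t φ using 1
  · congr!
  · rfl

/-- compactness from bounded cohomological dimension -/
theorem homSum_bijective {d : ℕ} (hd : CdLE P d)
    (hP : ∀ ι : Type v, PreservesColimitsOfShape (Discrete ι) (preadditiveCoyoneda.obj (op P)))
    (hI : ∀ (ι : Type v) (I : ι → A), (∀ i, Injective (I i)) → Ac P (∐ I))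
    {T : Type v} (M : T → DerivedCategory A) [HasCoproduct M] :
    Function.Bijective (CohDer.homSumToHomCoprod (Q.obj (S₀ P)) M) := by
  classical
  refine ⟨fun u w huw => DFinsupp.ext fun t => ?_, fun α => ?_⟩
  · let π : (∐ M) ⟶ M t := Sigma.desc fun t' => if h : t' = t then eqToHom (by rw [h]) else 0
    have key : ∀ a, CohDer.homSumToHomCoprod (Q.obj (S₀ P)) M a ≫ π = a t := by
      intro a
      induction a using DirectSum.induction_on with
      | zero => rw [map_zero, zero_comp]; rfl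
      | of t' φ =>
        rw [homSum_of', Category.assoc, Sigma.ι_desc]
        by_cases h : t' = t
        · subst h; simp
        · simp [dif_neg h, DirectSum.of_eq_of_ne _ _ _ (Ne.symm h)]
      | add a b ha hb => rw [map_add, Preadditive.add_comp, ha, hb]; rfl
    rw [← key u, ← key w, huw]
  · have hrep : ∀ t, ∃ I : CochainComplex A ℤ, (∀ k, Injective (I.X k)) ∧ Nonempty (Q.obj I ≅ M t) := fun t => by
      let eC := (Q (C := A)).objObjPreimageIso (M t)
      obtain ⟨I, s, -, hs, -, hI⟩ := KInj.exists_kInjective ((Q (C := A)).objPreimage (M t))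
      haveI := hs
      exact ⟨I, hI, ⟨(asIso (Q.map s)).symm ≪≫ eC⟩⟩
    choose K₀ hinj he using hrep
    let e := fun t => (he t).some
    obtain ⟨hc⟩ := DQCoh.nonempty_isColimit_Q_coprod BrownDerived.hKinj K₀
    let φ : Q.obj (∐ K₀) ⟶ ∐ M := Cofan.IsColimit.desc hc fun t => (e t).hom ≫ Sigma.ι M t
    let ψ : (∐ M) ⟶ Q.obj (∐ K₀) := Sigma.desc fun t => (e t).inv ≫ Q.map (Sigma.ι K₀ t)
    have hψφ : ψ ≫ φ = 𝟙 _ := Sigma.hom_ext _ _ fun t => by
      have h2 : Q.map (Sigma.ι K₀ t) ≫ φ = (e t).hom ≫ Sigma.ι M t := Cofan.IsColimit.fac hc _ t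
      simp [ψ, h2]
    haveI hsc : ∀ n : ℤ, IsIso (sigmaComparison (HomologicalComplex.eval A (ComplexShape.up ℤ) n) K₀) :=
      fun n => inferInstance
    have hac : ∀ k, Ac P ((∐ K₀).X k) := fun k =>
      ac_of_iso (asIso (sigmaComparison (HomologicalComplex.eval A (ComplexShape.up ℤ) k) K₀))
        (hI T _ fun t => hinj t k)
    obtain ⟨g, hg⟩ := exists_chain_map hd hac (α ≫ ψ)
    let pc : (∐ fun t => (K₀ t).X 0) ⟶ (∐ K₀).X 0 := Sigma.desc fun t => (Sigma.ι K₀ t).f 0
    have hpc : ∀ t, Sigma.ι (fun t => (K₀ t).X 0) t ≫ pc = (Sigma.ι K₀ t).f 0 := fun t => Sigma.ι_desc _ _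
    have : IsIso pc := hsc 0
    obtain ⟨F, hF⟩ := CompactRetract.exists_kill (fun t => (K₀ t).X 0) (hP T)
      ((HomologicalComplex.singleObjXSelf (ComplexShape.up ℤ) 0 P).inv ≫ g.f 0 ≫ inv pc)
    let π : ∀ t, (∐ K₀) ⟶ K₀ t := fun t => Sigma.desc fun t' => if h : t' = t then eqToHom (by rw [h]) else 0
    have hsum : pc ≫ (∑ t ∈ F, π t ≫ Sigma.ι K₀ t).f 0 = (𝟙 _ - CompactRetract.kill (fun t => (K₀ t).X 0) F) ≫ pc := by
      refine Sigma.hom_ext _ _ fun t => ?_
      show Sigma.ι (fun t => (K₀ t).X 0) t ≫ pc ≫ _ = Sigma.ι (fun t => (K₀ t).X 0) t ≫ _ ≫ pc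
      rw [reassoc_of% (hpc t), Preadditive.sub_comp, Preadditive.comp_sub, id_comp, hpc]
      show (Sigma.ι K₀ t).f 0 ≫ _ = (Sigma.ι K₀ t).f 0 - _
      rw [← HomologicalComplex.comp_f, Preadditive.comp_sum]
      by_cases h : t ∈ F
      · rw [reassoc_of% (CompactRetract.ι_kill (fun t => (K₀ t).X 0) h), zero_comp, sub_zero,
          Finset.sum_eq_single t (fun t' _ ht' => by simp [π, Ne.symm ht']) (fun h' => absurd h h')]
        simp [π]
      · rw [Finset.sum_eq_zero (fun t' ht' => by simp [π, show t ≠ t' by rintro rfl; exact h ht'])]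
        simp only [CompactRetract.kill, Sigma.ι_desc_assoc, if_neg h, HomologicalComplex.zero_f]
        rw [hpc]
        exact (sub_self _).symm
    have hgeq : g = ∑ t ∈ F, g ≫ π t ≫ Sigma.ι K₀ t := by
      refine HomologicalComplex.from_single_hom_ext ?_
      rw [← cancel_epi (HomologicalComplex.singleObjXSelf (ComplexShape.up ℤ) 0 P).inv,
        ← Preadditive.comp_sum, HomologicalComplex.comp_f]
      conv_rhs => rw [show g.f 0 = (g.f 0 ≫ inv pc) ≫ pc from by simp, assoc (g.f 0 ≫ inv pc), hsum,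
        Preadditive.sub_comp, id_comp, Preadditive.comp_sub, Preadditive.comp_sub]
      rw [← assoc _ _ (CompactRetract.kill _ F ≫ pc), ← assoc _ (CompactRetract.kill _ F), hF, zero_comp,
        sub_zero]
      simp
    refine ⟨∑ t ∈ F, DirectSum.of _ t (Q.map (g ≫ π t) ≫ (e t).hom), ?_⟩
    rw [map_sum, ← Category.comp_id α, ← hψφ, ← Category.assoc, ← hg]
    conv_rhs => rw [hgeq, Functor.map_sum, Preadditive.sum_comp]
    refine Finset.sum_congr rfl fun t _ => ?_
    have h2 : Q.map (Sigma.ι K₀ t) ≫ φ = (e t).hom ≫ Sigma.ι M t := Cofan.IsColimit.fac hc _ t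
    rw [homSum_of', ← assoc g, Functor.map_comp (Q) (g ≫ π t) (Sigma.ι K₀ t), assoc, assoc, h2]

end Groth.Agent.CompactCd
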