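import Groth.Agent.CompactCd.Basic
import Groth.Agent.SiteCoh.Basic
import Groth.Agent.ToposColim.Shift
import Groth.Prelude.Def_CohCx

/-!
Free abelian sheaves on objects whose cohomology commutes with direct sums.
-/

set_option autoImplicit false
set_option linter.style.haveILetI false
set_option backward.isDefEq.respectTransparency false
set_option backward.isDefEq.respectTransparency.types false

universe v u

open CategoryTheory Category Limits Abelian Opposite HomologicalComplex DerivedCategory

namespace Groth.Agent.CompactCd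

open Groth.Agent.CompactBdd

variable {A : Type u} [Category.{v} A] [Abelian A] [IsGrothendieckAbelian.{v} A] {P : A}

lemma preserves_hom_of_ext_zero (J : Type*) [Category J]
    [PreservesColimitsOfShape J ((Abelian.extFunctor.{v} 0).obj (op P))] :
    PreservesColimitsOfShape J (preadditiveCoyoneda.obj (op P)) :=
  preservesColimitsOfShape_of_natIso (NatIso.ofComponents
    (fun X => (Ext.addEquiv₀ (X := P) (Y := X)).toAddCommGrpIso) (fun {X Y} f => by
      apply AddCommGrpCat.hom_ext
      ext x
      obtain ⟨g, rfl⟩ := (Ext.mk₀_bijective _ _).2 x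
      show Ext.homEquiv₀ ((Ext.mk₀ g).comp (Ext.mk₀ f) (add_zero 0)) = Ext.homEquiv₀ (Ext.mk₀ g) ≫ f
      rw [Ext.mk₀_comp_mk₀]
      erw [Ext.homEquiv₀.apply_eq_iff_eq_symm_apply]
      exact congrArg _ (congrArg (· ≫ f) (Ext.homEquiv₀.apply_symm_apply g).symm)) : (Abelian.extFunctor.{v} 0).obj (op P) ≅ preadditiveCoyoneda.obj (op P))

lemma ac_coprod (h : ∀ (p : ℕ) (ι : Type v), PreservesColimitsOfShape (Discrete ι) ((Abelian.extFunctor.{v} p).obj (op P)))
    (ι : Type v) (I : ι → A) (hI : ∀ i, Injective (I i)) : Ac P (∐ I) := fun k => by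
  haveI := h (k + 1) ι
  let F := (Abelian.extFunctor.{v} (k + 1)).obj (op P)
  have hc := isColimitOfPreserves F (colimit.isColimit (Discrete.functor I))
  have hz : IsZero (F.obj (∐ I)) := (IsZero.iff_id_eq_zero _).2 (hc.hom_ext fun i => by
    have : IsZero (F.obj (I i.as)) := by
      haveI := hI i.as
      exact AddCommGrpCat.isZero_iff_subsingleton.2 (subsingleton_of_forall_eq 0 fun x => Ext.eq_zero_of_injective x)
    exact this.eq_of_src _ _)
  exact AddCommGrpCat.isZero_iff_subsingleton.1 hz

lemma homSum_single [HasDerivedCategory.{v} A] {T : Type v} (M : T → DerivedCategory A) [HasCoproduct M]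
    (hb : Function.Bijective (CohDer.homSumToHomCoprod (Q.obj (S₀ P)) M)) :
    Function.Bijective (CohDer.homSumToHomCoprod ((DerivedCategory.singleFunctor A 0).obj P) M) := by
  classical
  let e := (((SingleFunctors.evaluation _ _ (0 : ℤ)).mapIso
    (DerivedCategory.singleFunctorsPostcompQIso A)).app P)
  let pre : DirectSum T (fun t => ((DerivedCategory.singleFunctor A 0).obj P) ⟶ M t) →+
      DirectSum T (fun t => DerivedCategory.Q.obj (S₀ P) ⟶ M t) :=
    DirectSum.map fun t => Preadditive.leftComp (M t) e.inv
  have hpre : Function.Bijective pre := by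
    refine ⟨(DirectSum.map_injective _).2 fun t x y h => (cancel_epi e.inv).1 h,
      (DirectSum.map_surjective _).2 fun t x => ⟨e.hom ≫ x, Iso.inv_hom_id_assoc e x⟩⟩
  have hsq : ∀ x, CohDer.homSumToHomCoprod ((DerivedCategory.singleFunctor A 0).obj P) M x =
      e.hom ≫ CohDer.homSumToHomCoprod (DerivedCategory.Q.obj (S₀ P)) M (pre x) := by
    intro x
    induction x using DirectSum.induction_on with
    | zero => simp only [map_zero, comp_zero]
    | of t φ =>
      rw [homSum_of', DirectSum.map_of, homSum_of']
      change φ ≫ _ = e.hom ≫ (e.inv ≫ φ) ≫ _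
      rw [assoc, Iso.hom_inv_id_assoc]
    | add a b ha hb => simp only [map_add, Preadditive.comp_add, ha, hb]
  rw [funext hsq]
  exact Function.Bijective.comp (g := fun f => e.hom ≫ f)
    ⟨fun f g h => (cancel_epi e.hom).1 h, fun f => ⟨e.inv ≫ f, Iso.hom_inv_id_assoc e f⟩⟩ (hb.comp hpre)

variable {C : Type u} [SmallCategory C] (J : GrothendieckTopology C) (U : C)

lemma preserves_ext (h : ∀ (p : ℕ) (ι : Type u), PreservesColimitsOfShape (Discrete ι)
    ((Sheaf.cohomologyPresheafFunctor J p).flip.obj (op U))) (p : ℕ) (ι : Type u) :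
    PreservesColimitsOfShape (Discrete ι) ((Abelian.extFunctor.{u} p).obj (op (CohCx.freeSheaf J U))) :=
  haveI := h p ι
  preservesColimitsOfShape_of_natIso (NatIso.ofComponents (fun F => Iso.refl _) (fun {F G} f => by
      apply AddCommGrpCat.hom_ext
      ext x
      rfl) : (Sheaf.cohomologyPresheafFunctor J p).flip.obj (op U) ≅
        (Abelian.extFunctor.{u} p).obj (op (CohCx.freeSheaf J U)))

end Groth.Agent.CompactCd
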